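import Cfsg.Agent.Lib.SporRecognition.CosetCert.Upper
import Cfsg.Agent.Lib.SporRecognition.Cert.Fi22O3159.Steps1
import Cfsg.Agent.Lib.SporRecognition.Cert.Fi22O3159.Steps2
import Cfsg.Agent.Lib.SporRecognition.Cert.Fi22O3159.Steps3

/-! Generated coset-enumeration certificate: Fi22 over <b, c, d, e, f, g, h>, 3159 cosets. -/

set_option autoImplicit false
set_option maxRecDepth 20000
set_option linter.all false
set_option Elab.async false

namespace CfsgLib.SporRecognition.Cert.Fi22O3159

open CfsgLib.SporRecognition.CosetCert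

theorem defs_ok_c0 : allPow 10542 (defStep inv fact) 12 0 = true := by decide +kernel
theorem defs_ok_c1 : allPow 10542 (defStep inv fact) 12 4096 = true := by decide +kernel
theorem defs_ok_c2 : allPow 10542 (defStep inv fact) 12 8192 = true := by decide +kernel
theorem defs_ok : allBelow 14 10542 (defStep inv fact) = true :=
  allBelow_of_upto (hi := 12288)
    (Upto.trans (mid := 4096) ((Upto.of_pow defs_ok_c0 (Nat.le_refl _)) : Upto _ _ 0 (0 + 2 ^ 12))
    (Upto.trans (mid := 8192) ((Upto.of_pow defs_ok_c1 (Nat.le_refl _)) : Upto _ _ 4096 (4096 + 2 ^ 12))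
    ((Upto.of_pow defs_ok_c2 (Nat.le_refl _)) : Upto _ _ 8192 (8192 + 2 ^ 12))))
    (by decide) (by decide)

theorem final1_c0 : allPow 3159 (finalStep fact node item1 T1 34344 1 3159) 10 0 = true := by decide +kernel
theorem final1_c1 : allPow 3159 (finalStep fact node item1 T1 34344 1 3159) 10 1024 = true := by decide +kernel
theorem final1_c2 : allPow 3159 (finalStep fact node item1 T1 34344 1 3159) 10 2048 = true := by decide +kernel
theorem final1_c3 : allPow 3159 (finalStep fact node item1 T1 34344 1 3159) 10 3072 = true := by decide +kernel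
theorem final1 : allBelow 12 3159 (finalStep fact node item1 T1 34344 1 3159) = true :=
  allBelow_of_upto (hi := 4096)
    (Upto.trans (mid := 2048) (Upto.trans (mid := 1024) ((Upto.of_pow final1_c0 (Nat.le_refl _)) : Upto _ _ 0 (0 + 2 ^ 10))
    ((Upto.of_pow final1_c1 (Nat.le_refl _)) : Upto _ _ 1024 (1024 + 2 ^ 10)))
    (Upto.trans (mid := 3072) ((Upto.of_pow final1_c2 (Nat.le_refl _)) : Upto _ _ 2048 (2048 + 2 ^ 10))
    ((Upto.of_pow final1_c3 (Nat.le_refl _)) : Upto _ _ 3072 (3072 + 2 ^ 10))))
    (by decide) (by decide)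

theorem final2_c0 : allPow 3159 (finalStep fact node item2 T2 34344 2 3159) 10 0 = true := by decide +kernel
theorem final2_c1 : allPow 3159 (finalStep fact node item2 T2 34344 2 3159) 10 1024 = true := by decide +kernel
theorem final2_c2 : allPow 3159 (finalStep fact node item2 T2 34344 2 3159) 10 2048 = true := by decide +kernel
theorem final2_c3 : allPow 3159 (finalStep fact node item2 T2 34344 2 3159) 10 3072 = true := by decide +kernel
theorem final2 : allBelow 12 3159 (finalStep fact node item2 T2 34344 2 3159) = true :=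
  allBelow_of_upto (hi := 4096)
    (Upto.trans (mid := 2048) (Upto.trans (mid := 1024) ((Upto.of_pow final2_c0 (Nat.le_refl _)) : Upto _ _ 0 (0 + 2 ^ 10))
    ((Upto.of_pow final2_c1 (Nat.le_refl _)) : Upto _ _ 1024 (1024 + 2 ^ 10)))
    (Upto.trans (mid := 3072) ((Upto.of_pow final2_c2 (Nat.le_refl _)) : Upto _ _ 2048 (2048 + 2 ^ 10))
    ((Upto.of_pow final2_c3 (Nat.le_refl _)) : Upto _ _ 3072 (3072 + 2 ^ 10))))
    (by decide) (by decide)

theorem final3_c0 : allPow 3159 (finalStep fact node item3 T3 34344 3 3159) 10 0 = true := by decide +kernel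
theorem final3_c1 : allPow 3159 (finalStep fact node item3 T3 34344 3 3159) 10 1024 = true := by decide +kernel
theorem final3_c2 : allPow 3159 (finalStep fact node item3 T3 34344 3 3159) 10 2048 = true := by decide +kernel
theorem final3_c3 : allPow 3159 (finalStep fact node item3 T3 34344 3 3159) 10 3072 = true := by decide +kernel
theorem final3 : allBelow 12 3159 (finalStep fact node item3 T3 34344 3 3159) = true :=
  allBelow_of_upto (hi := 4096)
    (Upto.trans (mid := 2048) (Upto.trans (mid := 1024) ((Upto.of_pow final3_c0 (Nat.le_refl _)) : Upto _ _ 0 (0 + 2 ^ 10))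
    ((Upto.of_pow final3_c1 (Nat.le_refl _)) : Upto _ _ 1024 (1024 + 2 ^ 10)))
    (Upto.trans (mid := 3072) ((Upto.of_pow final3_c2 (Nat.le_refl _)) : Upto _ _ 2048 (2048 + 2 ^ 10))
    ((Upto.of_pow final3_c3 (Nat.le_refl _)) : Upto _ _ 3072 (3072 + 2 ^ 10))))
    (by decide) (by decide)

theorem final4_c0 : allPow 3159 (finalStep fact node item4 T4 34344 4 3159) 10 0 = true := by decide +kernel
theorem final4_c1 : allPow 3159 (finalStep fact node item4 T4 34344 4 3159) 10 1024 = true := by decide +kernel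
theorem final4_c2 : allPow 3159 (finalStep fact node item4 T4 34344 4 3159) 10 2048 = true := by decide +kernel
theorem final4_c3 : allPow 3159 (finalStep fact node item4 T4 34344 4 3159) 10 3072 = true := by decide +kernel
theorem final4 : allBelow 12 3159 (finalStep fact node item4 T4 34344 4 3159) = true :=
  allBelow_of_upto (hi := 4096)
    (Upto.trans (mid := 2048) (Upto.trans (mid := 1024) ((Upto.of_pow final4_c0 (Nat.le_refl _)) : Upto _ _ 0 (0 + 2 ^ 10))
    ((Upto.of_pow final4_c1 (Nat.le_refl _)) : Upto _ _ 1024 (1024 + 2 ^ 10)))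
    (Upto.trans (mid := 3072) ((Upto.of_pow final4_c2 (Nat.le_refl _)) : Upto _ _ 2048 (2048 + 2 ^ 10))
    ((Upto.of_pow final4_c3 (Nat.le_refl _)) : Upto _ _ 3072 (3072 + 2 ^ 10))))
    (by decide) (by decide)

theorem final5_c0 : allPow 3159 (finalStep fact node item5 T5 34344 5 3159) 10 0 = true := by decide +kernel
theorem final5_c1 : allPow 3159 (finalStep fact node item5 T5 34344 5 3159) 10 1024 = true := by decide +kernel
theorem final5_c2 : allPow 3159 (finalStep fact node item5 T5 34344 5 3159) 10 2048 = true := by decide +kernel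
theorem final5_c3 : allPow 3159 (finalStep fact node item5 T5 34344 5 3159) 10 3072 = true := by decide +kernel
theorem final5 : allBelow 12 3159 (finalStep fact node item5 T5 34344 5 3159) = true :=
  allBelow_of_upto (hi := 4096)
    (Upto.trans (mid := 2048) (Upto.trans (mid := 1024) ((Upto.of_pow final5_c0 (Nat.le_refl _)) : Upto _ _ 0 (0 + 2 ^ 10))
    ((Upto.of_pow final5_c1 (Nat.le_refl _)) : Upto _ _ 1024 (1024 + 2 ^ 10)))
    (Upto.trans (mid := 3072) ((Upto.of_pow final5_c2 (Nat.le_refl _)) : Upto _ _ 2048 (2048 + 2 ^ 10))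
    ((Upto.of_pow final5_c3 (Nat.le_refl _)) : Upto _ _ 3072 (3072 + 2 ^ 10))))
    (by decide) (by decide)

theorem final6_c0 : allPow 3159 (finalStep fact node item6 T6 34344 6 3159) 10 0 = true := by decide +kernel
theorem final6_c1 : allPow 3159 (finalStep fact node item6 T6 34344 6 3159) 10 1024 = true := by decide +kernel
theorem final6_c2 : allPow 3159 (finalStep fact node item6 T6 34344 6 3159) 10 2048 = true := by decide +kernel
theorem final6_c3 : allPow 3159 (finalStep fact node item6 T6 34344 6 3159) 10 3072 = true := by decide +kernel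
theorem final6 : allBelow 12 3159 (finalStep fact node item6 T6 34344 6 3159) = true :=
  allBelow_of_upto (hi := 4096)
    (Upto.trans (mid := 2048) (Upto.trans (mid := 1024) ((Upto.of_pow final6_c0 (Nat.le_refl _)) : Upto _ _ 0 (0 + 2 ^ 10))
    ((Upto.of_pow final6_c1 (Nat.le_refl _)) : Upto _ _ 1024 (1024 + 2 ^ 10)))
    (Upto.trans (mid := 3072) ((Upto.of_pow final6_c2 (Nat.le_refl _)) : Upto _ _ 2048 (2048 + 2 ^ 10))
    ((Upto.of_pow final6_c3 (Nat.le_refl _)) : Upto _ _ 3072 (3072 + 2 ^ 10))))
    (by decide) (by decide)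

theorem final7_c0 : allPow 3159 (finalStep fact node item7 T7 34344 7 3159) 10 0 = true := by decide +kernel
theorem final7_c1 : allPow 3159 (finalStep fact node item7 T7 34344 7 3159) 10 1024 = true := by decide +kernel
theorem final7_c2 : allPow 3159 (finalStep fact node item7 T7 34344 7 3159) 10 2048 = true := by decide +kernel
theorem final7_c3 : allPow 3159 (finalStep fact node item7 T7 34344 7 3159) 10 3072 = true := by decide +kernel
theorem final7 : allBelow 12 3159 (finalStep fact node item7 T7 34344 7 3159) = true :=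
  allBelow_of_upto (hi := 4096)
    (Upto.trans (mid := 2048) (Upto.trans (mid := 1024) ((Upto.of_pow final7_c0 (Nat.le_refl _)) : Upto _ _ 0 (0 + 2 ^ 10))
    ((Upto.of_pow final7_c1 (Nat.le_refl _)) : Upto _ _ 1024 (1024 + 2 ^ 10)))
    (Upto.trans (mid := 3072) ((Upto.of_pow final7_c2 (Nat.le_refl _)) : Upto _ _ 2048 (2048 + 2 ^ 10))
    ((Upto.of_pow final7_c3 (Nat.le_refl _)) : Upto _ _ 3072 (3072 + 2 ^ 10))))
    (by decide) (by decide)

theorem final8_c0 : allPow 3159 (finalStep fact node item8 T8 34344 8 3159) 10 0 = true := by decide +kernel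
theorem final8_c1 : allPow 3159 (finalStep fact node item8 T8 34344 8 3159) 10 1024 = true := by decide +kernel
theorem final8_c2 : allPow 3159 (finalStep fact node item8 T8 34344 8 3159) 10 2048 = true := by decide +kernel
theorem final8_c3 : allPow 3159 (finalStep fact node item8 T8 34344 8 3159) 10 3072 = true := by decide +kernel
theorem final8 : allBelow 12 3159 (finalStep fact node item8 T8 34344 8 3159) = true :=
  allBelow_of_upto (hi := 4096)
    (Upto.trans (mid := 2048) (Upto.trans (mid := 1024) ((Upto.of_pow final8_c0 (Nat.le_refl _)) : Upto _ _ 0 (0 + 2 ^ 10))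
    ((Upto.of_pow final8_c1 (Nat.le_refl _)) : Upto _ _ 1024 (1024 + 2 ^ 10)))
    (Upto.trans (mid := 3072) ((Upto.of_pow final8_c2 (Nat.le_refl _)) : Upto _ _ 2048 (2048 + 2 ^ 10))
    ((Upto.of_pow final8_c3 (Nat.le_refl _)) : Upto _ _ 3072 (3072 + 2 ^ 10))))
    (by decide) (by decide)

theorem relW_one : ∀ w ∈ relW, evalW (PresentedGroup.of (rels := (Cfsg.Spor.coxRelators Cfsg.Spor.Fi22.edges ∪ {r | r ∈ Cfsg.Spor.Fi22.extra}))) w = 1 := by
  have h : coxW Cfsg.Spor.Fi22.edges pairs extraW = relW := by decide +kernel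
  rw [← h]
  exact coxW_eq_one (by decide +kernel) rfl

noncomputable def tabU : Cfsg.Spor.Fi22.Gen → Nat → Nat := fun a => tabs a true

theorem sect : ∃ s : Nat → PresentedGroup (Cfsg.Spor.coxRelators Cfsg.Spor.Fi22.edges ∪ {r | r ∈ Cfsg.Spor.Fi22.extra}) ⧸ wordSubgroup (Cfsg.Spor.coxRelators Cfsg.Spor.Fi22.edges ∪ {r | r ∈ Cfsg.Spor.Fi22.extra}) subW,
    s 0 = ((1 : PresentedGroup (Cfsg.Spor.coxRelators Cfsg.Spor.Fi22.edges ∪ {r | r ∈ Cfsg.Spor.Fi22.extra})) : PresentedGroup (Cfsg.Spor.coxRelators Cfsg.Spor.Fi22.edges ∪ {r | r ∈ Cfsg.Spor.Fi22.extra}) ⧸ wordSubgroup (Cfsg.Spor.coxRelators Cfsg.Spor.Fi22.edges ∪ {r | r ∈ Cfsg.Spor.Fi22.extra}) subW) ∧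
    ∀ a ∈ ([.b, .c, .d, .e, .f, .g, .h, .i] : List Cfsg.Spor.Fi22.Gen), ∀ u, u < 3159 → tabU a u < 3159 ∧
      (PresentedGroup.of (rels := (Cfsg.Spor.coxRelators Cfsg.Spor.Fi22.edges ∪ {r | r ∈ Cfsg.Spor.Fi22.extra})) a) • s u = s (tabU a u) :=
  section_of_checks invols relW relW_one (by decide +kernel) subW lets data rtriv rroot 38 45 rfl rfl
    (by decide +kernel) (by decide +kernel) (fun k hk => allBelow_spec defs_ok k hk) (covers1.trans (covers2.trans (covers3))) (by decide +kernel)
    (by
      intro i hi u hu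
      have hi' : i < 8 := hi
      interval_cases i
      · exact allBelow_spec final1 u hu
      · exact allBelow_spec final2 u hu
      · exact allBelow_spec final3 u hu
      · exact allBelow_spec final4 u hu
      · exact allBelow_spec final5 u hu
      · exact allBelow_spec final6 u hu
      · exact allBelow_spec final7 u hu
      · exact allBelow_spec final8 u hu
      ) [.b, .c, .d, .e, .f, .g, .h, .i] tabU (by
      intro a ha
      fin_cases ha
      · exact ⟨0, by decide, rfl, rfl⟩
      · exact ⟨1, by decide, rfl, rfl⟩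
      · exact ⟨2, by decide, rfl, rfl⟩
      · exact ⟨3, by decide, rfl, rfl⟩
      · exact ⟨4, by decide, rfl, rfl⟩
      · exact ⟨5, by decide, rfl, rfl⟩
      · exact ⟨6, by decide, rfl, rfl⟩
      · exact ⟨7, by decide, rfl, rfl⟩
      )

end CfsgLib.SporRecognition.Cert.Fi22O3159
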